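import Cfsg.Agent.CosetEnum.Fi24.Transposition
import Cfsg.Agent.FischerTypes.Local

/-!
The members of the presented `Fi24` as points: the class of 3-transpositions, trivial centre,
primitivity, and the neighbours of the base member.
-/

set_option autoImplicit false
set_option maxRecDepth 100000
set_option linter.unusedSectionVars false
set_option linter.style.haveILetI false

namespace CfsgLib.FischerExist

open Cfsg CfsgLib.CosetEnum CfsgLib.CosetEnum.Fi24
open Fi24H (H hLetters perm walkT)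

noncomputable section

/-- The group. -/
abbrev G24 : Type := Fi24.setup.Grp

/-- The class. -/
def D24 : Set G24 := conjugatesOf (Fi24.setup.g 11)

/-- The action and the structure of the stabiliser. -/
structure Dic where
  φ : G24 →* Equiv.Perm (Fin 306936)
  gen : ∀ x, x < 12 → φ (Fi24.setup.g x) = perm Fi24H.fix_all x
  stab : ∀ y, φ y 0 = 0 ↔ y ∈ H
  inj : Function.Injective φ
  cardG : Nat.card G24 = 2 * 1255205709190661721292800
  cardH : Nat.card H = 2 * 4089470473293004800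
  cardZ : Nat.card Z = 2
  χ : Fi23.setup.Grp ≃* H ⧸ Z
  hχ : ∀ x, x < 10 → χ (Fi23.setup.g x) = QuotientGroup.mk ⟨Fi24.setup.g (m23 x), g_mem_H _ (m23_mem x)⟩

theorem exists_dic : Nonempty Dic := by
  obtain ⟨φ, e, hφ, he, he0, hinj, hG, hH, hZ, χ, hbij, hχ⟩ := order_and_action
  exact ⟨⟨φ, hφ, mem_H_iff he he0, hinj, hG, hH, hZ, MulEquiv.ofBijective χ hbij, hχ⟩⟩

namespace Dic

variable (E : Dic)

theorem φ_g {x : ℕ} (hx : x < 12) (i : Fin 306936) : (E.φ (Fi24.setup.g x) i).val = Fi24H.T x i.val := by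
  rw [E.gen x hx, Fi24H.perm_apply _ _ hx]

theorem φ_prodw : ∀ (w : List ℕ), (∀ x ∈ w, x < 12) → ∀ i : Fin 306936,
    (E.φ (prodw Fi24.setup.g w) i).val = walkT w.reverse i.val := by
  intro w
  induction w with
  | nil => intro _ i; rw [prodw_nil, map_one, Equiv.Perm.one_apply]; rfl
  | cons x w ih =>
    intro hw i
    rw [prodw_cons, map_mul, Equiv.Perm.mul_apply, E.φ_g (hw x List.mem_cons_self),
      ih (fun y hy => hw y (List.mem_cons_of_mem x hy)), List.reverse_cons, Fi24H.walkT_append]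
    rfl

theorem comm_z {y : G24} : Commute y (Fi24.setup.g 11) ↔ y ∈ H := by
  rw [← centralizer_eq, Subgroup.mem_centralizer_singleton_iff]
  exact Iff.rfl

theorem commute_iff {y u : G24} :
    Commute y (u * Fi24.setup.g 11 * u⁻¹) ↔ E.φ y (E.φ u 0) = E.φ u 0 := by
  have h1 : Commute y (u * Fi24.setup.g 11 * u⁻¹) ↔ u⁻¹ * y * u ∈ H := by
    rw [← comm_z]
    conv_lhs => rw [show y = u * (u⁻¹ * y * u) * u⁻¹ by group]
    exact Commute.conj_iff u
  rw [h1, ← E.stab, map_mul, map_mul, map_inv, Equiv.Perm.mul_apply, Equiv.Perm.mul_apply,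
    Equiv.Perm.inv_eq_iff_eq]

theorem conj_eq_iff {u v : G24} :
    u * Fi24.setup.g 11 * u⁻¹ = v * Fi24.setup.g 11 * v⁻¹ ↔ E.φ u 0 = E.φ v 0 := by
  have h0 : E.φ (v⁻¹ * u) 0 = 0 ↔ E.φ u 0 = E.φ v 0 := by
    rw [map_mul, map_inv, Equiv.Perm.mul_apply, Equiv.Perm.inv_eq_iff_eq]
  rw [← h0, E.stab, ← comm_z]
  constructor
  · intro h
    show v⁻¹ * u * Fi24.setup.g 11 = Fi24.setup.g 11 * (v⁻¹ * u)
    calc v⁻¹ * u * Fi24.setup.g 11 = v⁻¹ * (u * Fi24.setup.g 11 * u⁻¹) * u := by group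
      _ = v⁻¹ * (v * Fi24.setup.g 11 * v⁻¹) * u := by rw [h]
      _ = _ := by group
  · intro h
    calc u * Fi24.setup.g 11 * u⁻¹ = v * (v⁻¹ * u * Fi24.setup.g 11) * u⁻¹ := by group
      _ = v * (Fi24.setup.g 11 * (v⁻¹ * u)) * u⁻¹ := by rw [h.eq]
      _ = _ := by group

/-- The element taking the base point to the root of the short suborbit. -/
def u8 : G24 := Fi24.setup.g 10 * Fi24.setup.g 0 * Fi24.setup.g 11 * Fi24.setup.g 10

theorem φ_ten : E.φ (Fi24.setup.g 10) 0 = root 1 := by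
  refine Fin.ext ?_
  rw [E.φ_g (by norm_num)]
  exact point_facts.1

theorem φ_u8 : E.φ u8 0 = root 2 := by
  refine Fin.ext ?_
  rw [u8, map_mul, map_mul, map_mul, Equiv.Perm.mul_apply, Equiv.Perm.mul_apply, Equiv.Perm.mul_apply,
    E.φ_g (by norm_num), E.φ_g (by norm_num), E.φ_g (by norm_num), E.φ_g (by norm_num)]
  exact point_facts.2.1

theorem exists_at (i : Fin 306936) (hi : i.val ≠ 0) :
    ∃ h ∈ H, (which i.val = 1 ∧ E.φ (h * Fi24.setup.g 10) 0 = i) ∨ (which i.val = 2 ∧ E.φ (h * u8) 0 = i) := by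
  obtain ⟨y, hy, hyi⟩ := exists_mem_apply_root E.gen i hi
  refine ⟨y, hy, ?_⟩
  rcases ((label_spec i.val i.2).2.2 hi).1 with h | h
  · exact Or.inl ⟨h, by rw [map_mul, Equiv.Perm.mul_apply, E.φ_ten, ← h, hyi]⟩
  · exact Or.inr ⟨h, by rw [map_mul, Equiv.Perm.mul_apply, E.φ_u8, ← h, hyi]⟩

theorem exists_move (i : Fin 306936) : ∃ u, E.φ u 0 = i := by
  by_cases hi : i.val = 0
  · exact ⟨1, by rw [map_one, Equiv.Perm.one_apply]; exact Fin.ext hi.symm⟩
  · obtain ⟨h, -, ⟨-, e⟩ | ⟨-, e⟩⟩ := E.exists_at i hi <;> exact ⟨_, e⟩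

include E in
theorem class24 : IsThreeTranspositionClass D24 := by
  haveI : _root_.Fact (Nat.Prime 2) := ⟨Nat.prime_two⟩
  set z := Fi24.setup.g 11 with hz
  have hz1 : z ≠ 1 := fun h => by
    have h1 := E.φ_g (x := 11) (by norm_num) ⟨1, by norm_num⟩
    rw [← hz, h, map_one, Equiv.Perm.one_apply, moves_one.2] at h1
    exact absurd h1 (by norm_num)
  have hzo : orderOf z = 2 := orderOf_eq_prime (by rw [pow_two, sq_g]) hz1
  have hcomm : ∀ y ∈ H, y * z * y⁻¹ = z := fun y hy => by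
    rw [(comm_z.2 hy).eq, mul_inv_cancel_right]
  refine ⟨⟨?_, ?_⟩, ⟨z, mem_conjugatesOf_self, rfl⟩, ?_⟩
  · intro d hd
    obtain ⟨c, rfl⟩ := isConj_iff.mp (hd : IsConj z _)
    rw [show c * z * c⁻¹ = MulAut.conj c z from rfl]
    exact ((MulAut.conj c).orderOf_eq z).trans hzo
  · intro d hd d' hd'
    obtain ⟨a, rfl⟩ := isConj_iff.mp (hd : IsConj z _)
    obtain ⟨b, rfl⟩ := isConj_iff.mp (hd' : IsConj z _)
    have hmain : (z * ((a⁻¹ * b) * z * (a⁻¹ * b)⁻¹)) ^ 2 = 1 ∨
        (z * ((a⁻¹ * b) * z * (a⁻¹ * b)⁻¹)) ^ 3 = 1 := by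
      generalize a⁻¹ * b = c
      by_cases hc : (E.φ c 0).val = 0
      · left
        rw [hcomm c ((E.stab c).1 (Fin.ext hc)), pow_two, sq_g, one_mul]
      obtain ⟨y, hy, h⟩ := E.exists_at (E.φ c 0) hc
      have key : ∀ (u : G24) (p : ℕ), E.φ (y * u) 0 = E.φ c 0 →
          (z * (u * z * u⁻¹)) ^ p = 1 → (z * (c * z * c⁻¹)) ^ p = 1 := fun u p hu hp => by
        have h : z * (c * z * c⁻¹) = y * (z * (u * z * u⁻¹)) * y⁻¹ := by
          rw [← E.conj_eq_iff.2 hu, ← hz]
          conv_lhs => arg 1; rw [← hcomm y hy]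
          group
        rw [h, conj_pow, hp]
        group
      rcases h with ⟨-, h⟩ | ⟨-, h⟩
      · right
        refine key _ 3 h ?_
        rw [inv_g]
        have h := setup.prod_mem [10, 11, 10, 11, 10, 11] (show _ ∈ words by decide +kernel)
        simp only [prodw, List.map_cons, List.map_nil, List.prod_cons, List.prod_nil, mul_one] at h
        have h3 : (setup.g 11 * setup.g 10) ^ 3 = 1 := by
          rw [show setup.g 11 * setup.g 10 = (setup.g 10 * setup.g 11)⁻¹ by rw [mul_inv_rev, inv_g, inv_g],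
            inv_pow, inv_eq_one, pow_succ, pow_two]
          simpa only [mul_assoc] using h
        rw [show z * (setup.g 10 * z * setup.g 10) = (setup.g 11 * setup.g 10) ^ 2 by
          rw [hz, pow_two]; simp only [mul_assoc], ← pow_mul, mul_comm, pow_mul, h3, one_pow]
      · left
        refine key _ 2 h ?_
        rw [hz, u8, short_rep]
        have h := setup.prod_mem [0, 11, 0, 11] (show _ ∈ words by decide +kernel)
        simp only [prodw, List.map_cons, List.map_nil, List.prod_cons, List.prod_nil, mul_one] at h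
        have h2 : (setup.g 0 * setup.g 11) ^ 2 = 1 := by
          rw [pow_two]
          simpa only [mul_assoc] using h
        rw [show setup.g 11 * setup.g 0 = (setup.g 0 * setup.g 11)⁻¹ by rw [mul_inv_rev, inv_g, inv_g],
          inv_pow, h2, inv_one]
    have hconv : a * z * a⁻¹ * (b * z * b⁻¹) = a * (z * ((a⁻¹ * b) * z * (a⁻¹ * b)⁻¹)) * a⁻¹ := by group
    rw [hconv, conj_pow, conj_pow]
    rcases hmain with h | h
    · left; rw [h, mul_one, mul_inv_cancel]
    · right; rw [h, mul_one, mul_inv_cancel]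
  · rw [eq_top_iff, ← closure_g]
    refine (Subgroup.closure_le _).mpr ?_
    rintro _ ⟨x, hx, rfl⟩
    refine Subgroup.subset_closure ?_
    have hx' : x < 12 := hx
    have step : ∀ p q : ℕ, [p, q, p, q, p, q] ∈ words → setup.g p ∈ D24 →
        setup.g q ∈ D24 := fun p q h hp =>
      IsConj.trans hp (isConj_iff.mpr ⟨_, conj_eq p q h⟩)
    have step' : ∀ p q : ℕ, [q, p, q, p, q, p] ∈ words → setup.g p ∈ D24 →
        setup.g q ∈ D24 := fun p q h hp =>
      IsConj.trans hp (isConj_iff.mpr ⟨_, conj_eq q p h⟩).symm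
    have h11 : setup.g 11 ∈ D24 := mem_conjugatesOf_self
    have h10 := step' 11 10 (by decide +kernel) h11
    have h0 := step' 10 0 (by decide +kernel) h10
    have h1 := step 0 1 (by decide +kernel) h0
    have h2 := step 1 2 (by decide +kernel) h1
    have h3 := step 2 3 (by decide +kernel) h2
    have h4 := step 3 4 (by decide +kernel) h3
    have h5 := step 4 5 (by decide +kernel) h4
    have h6 := step 5 6 (by decide +kernel) h5
    have h7 := step 3 7 (by decide +kernel) h3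
    have h8 := step 7 8 (by decide +kernel) h7
    have h9 := step 6 9 (by decide +kernel) h6
    interval_cases x <;> assumption

include E in
theorem g_mem_D {x : ℕ} (hx : x < 12) : Fi24.setup.g x ∈ D24 := by
  have step : ∀ p q : ℕ, [p, q, p, q, p, q] ∈ words → setup.g p ∈ D24 →
      setup.g q ∈ D24 := fun p q h hp =>
    IsConj.trans hp (isConj_iff.mpr ⟨_, conj_eq p q h⟩)
  have step' : ∀ p q : ℕ, [q, p, q, p, q, p] ∈ words → setup.g p ∈ D24 →
      setup.g q ∈ D24 := fun p q h hp =>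
    IsConj.trans hp (isConj_iff.mpr ⟨_, conj_eq q p h⟩).symm
  have h11 : setup.g 11 ∈ D24 := mem_conjugatesOf_self
  have h10 := step' 11 10 (by decide +kernel) h11
  have h0 := step' 10 0 (by decide +kernel) h10
  have h1 := step 0 1 (by decide +kernel) h0
  have h2 := step 1 2 (by decide +kernel) h1
  have h3 := step 2 3 (by decide +kernel) h2
  have h4 := step 3 4 (by decide +kernel) h3
  have h5 := step 4 5 (by decide +kernel) h4
  have h6 := step 5 6 (by decide +kernel) h5
  have h7 := step 3 7 (by decide +kernel) h3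
  have h8 := step 7 8 (by decide +kernel) h7
  have h9 := step 6 9 (by decide +kernel) h6
  interval_cases x <;> assumption

include E in
theorem center_eq_bot : Subgroup.center G24 = ⊥ := by
  rw [Subgroup.eq_bot_iff_forall]
  intro c hc
  refine E.inj (Equiv.ext fun i => ?_)
  obtain ⟨u, rfl⟩ := E.exists_move i
  rw [map_one, Equiv.Perm.one_apply]
  exact E.commute_iff.1 (Subgroup.mem_center_iff.1 hc _).symm

/-- The set stabiliser of a set of members. -/
def setStab (B : Set G24) : Subgroup G24 where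
  carrier := {g | (fun x => g * x * g⁻¹) '' B = B}
  one_mem' := by simp
  mul_mem' := fun {a b} ha hb => by
    show (fun x => a * b * x * (a * b)⁻¹) '' B = B
    rw [show (fun x : G24 => a * b * x * (a * b)⁻¹) = (fun x => a * x * a⁻¹) ∘ (fun x => b * x * b⁻¹) from
      funext fun x => by simp [mul_assoc], Set.image_comp, hb, ha]
  inv_mem' := fun {a} ha => by
    show (fun x => a⁻¹ * x * a⁻¹⁻¹) '' B = B
    conv_lhs => rw [← (ha : (fun x => a * x * a⁻¹) '' B = B), ← Set.image_comp]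
    simp [mul_assoc]

include E in
theorem blocks_at (B : Set G24) (hBD : B ⊆ D24) (hz : Fi24.setup.g 11 ∈ B)
    (hB : ∀ g : G24, (fun x => g * x * g⁻¹) '' B = B ∨ Disjoint ((fun x => g * x * g⁻¹) '' B) B) :
    B.Subsingleton ∨ B = D24 := by
  classical
  set z := Fi24.setup.g 11 with hzdef
  set S := setStab B with hS
  have hmeet : ∀ g : G24, g * z * g⁻¹ ∈ B → g ∈ S := fun g hg =>
    (hB g).resolve_right fun hd => Set.disjoint_left.1 hd ⟨z, hz, rfl⟩ hg
  have hHS : H ≤ S := fun h hh => hmeet h (by rw [(comm_z.2 hh).eq, mul_inv_cancel_right]; exact hz)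
  have hmem : ∀ g ∈ S, g * z * g⁻¹ ∈ B := fun g hg => by
    have e : (fun x => g * x * g⁻¹) '' B = B := hg
    rw [← e]
    exact ⟨z, hz, rfl⟩
  -- the points of the members of the block
  set O := MulAction.orbit (S.map E.φ) (0 : Fin 306936) with hO
  have hOiff : ∀ u : G24, E.φ u 0 ∈ O ↔ u * z * u⁻¹ ∈ B := by
    intro u
    constructor
    · rintro ⟨⟨_, g, hg, rfl⟩, hp⟩
      rw [← E.conj_eq_iff.2 (hp : E.φ g 0 = E.φ u 0)]
      exact hmem g hg
    · intro hu
      exact ⟨⟨_, u, hmeet u hu, rfl⟩, rfl⟩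
  have hOH : ∀ i ∈ O, ∀ h ∈ H, E.φ h i ∈ O := by
    intro i hi h hh
    obtain ⟨⟨_, g, hg, rfl⟩, rfl⟩ := hi
    refine ⟨⟨_, h * g, mul_mem (hHS hh) hg, rfl⟩, ?_⟩
    show E.φ (h * g) 0 = E.φ h (E.φ g 0)
    rw [map_mul, Equiv.Perm.mul_apply]
  have hfull : ∀ i ∈ O, i.val ≠ 0 → ∀ j : Fin 306936, j.val ≠ 0 → which j.val = which i.val → j ∈ O := by
    intro i hi hi0 j hj0 hw
    obtain ⟨a, ha, hai⟩ := exists_mem_apply_root E.gen i hi0
    obtain ⟨b, hb, hbj⟩ := exists_mem_apply_root E.gen j hj0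
    rw [hw] at hbj
    have := hOH i hi _ (mul_mem hb (inv_mem ha))
    rwa [map_mul, map_inv, Equiv.Perm.mul_apply, Equiv.Perm.inv_eq_iff_eq.2 hai.symm, hbj] at this
  have hw0 : which (0 : Fin 306936).val = 0 := (label_spec 0 (by norm_num)).2.1 rfl
  have hno0 : ∀ w, w = 1 ∨ w = 2 → ∀ j : Fin 306936, which j.val = w → j.val ≠ 0 := by
    intro w hw j hj h0
    have : which j.val = 0 := by rw [h0]; exact hw0
    omega
  have hcount : ∀ w, w = 1 ∨ w = 2 → (∃ i ∈ O, which i.val = w) → (∀ i ∈ O, i.val ≠ 0 → which i.val = w) →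
      False := by
    rintro w hw ⟨i, hi, hiw⟩ hall
    have hOeq : O = insert (0 : Fin 306936) {j : Fin 306936 | which j.val = w} := by
      ext j
      constructor
      · intro hj
        by_cases hj0 : j.val = 0
        · exact Or.inl (Fin.ext hj0)
        · exact Or.inr (hall j hj hj0)
      · rintro (rfl | hj)
        · exact MulAction.mem_orbit_self _
        · exact hfull i hi (hno0 w hw i hiw) j (hno0 w hw j hj) (hj.trans hiw.symm)
    have hn : O.ncard = Nat.card {j : Fin 306936 // which j.val = w} + 1 := by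
      rw [hOeq, Set.ncard_insert_of_notMem (s := {j : Fin 306936 | which j.val = w}) (a := 0)
        (fun h => hno0 w hw 0 h rfl), ← Nat.card_coe_set_eq]
      rfl
    have hdvd : O.ncard ∣ 2 * 1255205709190661721292800 := by
      rw [hO, ← MulAction.index_stabilizer, ← E.cardG]
      refine (Subgroup.index_dvd_card _).trans ?_
      rw [Subgroup.card_map_of_injective E.inj]
      exact Subgroup.card_subgroup_dvd_card S
    rcases hw with rfl | rfl
    · rw [hn, card_large] at hdvd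
      norm_num at hdvd
    · rw [hn, card_small] at hdvd
      norm_num at hdvd
  by_cases h1 : ∃ i ∈ O, i.val ≠ 0 ∧ which i.val = 1
  · obtain ⟨i, hi, hi0, hi1⟩ := h1
    by_cases h2 : ∃ i ∈ O, i.val ≠ 0 ∧ which i.val = 2
    · obtain ⟨i', hi', hi0', hi2⟩ := h2
      refine Or.inr (Set.Subset.antisymm hBD fun d hd => ?_)
      obtain ⟨u, rfl⟩ := isConj_iff.1 (hd : IsConj z d)
      rw [← hOiff]
      by_cases hu : (E.φ u 0).val = 0
      · rw [show E.φ u 0 = 0 from Fin.ext hu]; exact MulAction.mem_orbit_self _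
      · rcases ((label_spec _ (E.φ u 0).2).2.2 hu).1 with h | h
        · exact hfull i hi hi0 _ hu (h.trans hi1.symm)
        · exact hfull i' hi' hi0' _ hu (h.trans hi2.symm)
    · exact (hcount 1 (Or.inl rfl) ⟨i, hi, hi1⟩ fun j hj hj0 =>
        ((label_spec _ j.2).2.2 hj0).1.resolve_right fun h => h2 ⟨j, hj, hj0, h⟩).elim
  · by_cases h2 : ∃ i ∈ O, i.val ≠ 0 ∧ which i.val = 2
    · obtain ⟨i, hi, -, hi2⟩ := h2
      exact (hcount 2 (Or.inr rfl) ⟨i, hi, hi2⟩ fun j hj hj0 =>
        ((label_spec _ j.2).2.2 hj0).1.resolve_left fun h => h1 ⟨j, hj, hj0, h⟩).elim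
    · left
      have hB1 : ∀ x ∈ B, x = z := by
        intro x hx
        obtain ⟨u, rfl⟩ := isConj_iff.1 (hBD hx : IsConj z x)
        have hu := (hOiff u).2 hx
        have h0 : (E.φ u 0).val = 0 := by
          by_contra h
          rcases ((label_spec _ (E.φ u 0).2).2.2 h).1 with h' | h'
          exacts [h1 ⟨_, hu, h, h'⟩, h2 ⟨_, hu, h, h'⟩]
        rw [(comm_z.2 ((E.stab u).1 (Fin.ext h0))).eq, mul_inv_cancel_right]
      exact fun x hx y hy => (hB1 x hx).trans (hB1 y hy).symm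

include E in
theorem primitive24 : IsPrimitiveUnderConj D24 := by
  refine ⟨fun a ha b hb => isConj_iff.1 ((ha : IsConj _ a).symm.trans hb),
    ⟨_, E.g_mem_D (x := 11) (by norm_num), _, E.g_mem_D (x := 0) (by norm_num), fun h => ?_⟩, ?_⟩
  · have h1 := E.φ_g (x := 11) (by norm_num) ⟨1, by norm_num⟩
    rw [h, E.φ_g (by norm_num), moves_one.1, moves_one.2] at h1
    norm_num at h1
  intro B hBD hB
  rcases Set.eq_empty_or_nonempty B with rfl | ⟨a, ha⟩
  · exact Or.inl Set.subsingleton_empty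
  obtain ⟨u, rfl⟩ := isConj_iff.1 (hBD ha : IsConj (Fi24.setup.g 11) a)
  set B' := (fun x => u⁻¹ * x * u⁻¹⁻¹) '' B with hB'
  have hD : ∀ g : G24, ∀ x ∈ D24, g * x * g⁻¹ ∈ D24 := fun g x hx =>
    (hx : IsConj _ x).trans (isConj_iff.2 ⟨g, rfl⟩)
  rcases E.blocks_at B' (by rintro _ ⟨x, hx, rfl⟩; exact hD _ x (hBD hx))
    ⟨_, ha, by group⟩ (fun g => by
      have hinj : Function.Injective fun x : G24 => u⁻¹ * x * u⁻¹⁻¹ := fun a b h => by simpa using h
      have e : (fun x => g * x * g⁻¹) '' B' =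
          (fun x => u⁻¹ * x * u⁻¹⁻¹) '' ((fun x => u * g * u⁻¹ * x * (u * g * u⁻¹)⁻¹) '' B) := by
        rw [hB', ← Set.image_comp, ← Set.image_comp]
        refine Set.image_congr fun x _ => ?_
        simp only [Function.comp_def]
        group
      rw [e]
      exact (hB _).imp (fun h => by rw [h]) fun h => Set.disjoint_image_of_injective hinj h) with h | h
  · exact Or.inl fun x hx y hy => by simpa using h ⟨x, hx, rfl⟩ ⟨y, hy, rfl⟩
  · refine Or.inr (Set.Subset.antisymm hBD fun d hd => ?_)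
    obtain ⟨x, hx, hxd⟩ : u⁻¹ * d * u⁻¹⁻¹ ∈ B' := by rw [h]; exact hD _ d hd
    obtain rfl : x = d := by simpa using hxd
    exact hx

include E in
theorem mem_perp_iff {y : G24} :
    y ∈ FischerTypes.perp D24 (Fi24.setup.g 11) ↔ ∃ h ∈ H, y = h * Fi24.setup.g 0 * h⁻¹ := by
  set z := Fi24.setup.g 11 with hz
  have h0D : Fi24.setup.g 0 ∈ D24 := E.g_mem_D (by norm_num)
  have h0H : Fi24.setup.g 0 ∈ H := g_mem_H 0 (by decide)
  have hne : Fi24.setup.g 0 ≠ z := fun h => by
    have h1 := E.φ_g (x := 0) (by norm_num) ⟨1, by norm_num⟩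
    rw [h, E.φ_g (by norm_num), moves_one.1, moves_one.2] at h1
    norm_num at h1
  constructor
  · rintro ⟨hy, hyz, hc⟩
    obtain ⟨u, rfl⟩ := isConj_iff.1 (hy : IsConj z y)
    have hfix := E.commute_iff.1 hc
    have hi0 : (E.φ u 0).val ≠ 0 := fun h => hyz (by
      rw [(comm_z.2 ((E.stab u).1 (Fin.ext h))).eq, mul_inv_cancel_right])
    obtain ⟨h, hh, hcase⟩ := E.exists_at (E.φ u 0) hi0
    rcases hcase with ⟨-, e⟩ | ⟨-, e⟩
    · exfalso
      rw [← e, map_mul, Equiv.Perm.mul_apply, ← Equiv.Perm.mul_apply, ← map_mul,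
        (comm_z.2 hh).eq.symm, map_mul, Equiv.Perm.mul_apply, E.φ_ten] at hfix
      have h2 := congrArg Fin.val ((E.φ h).injective hfix)
      rw [E.φ_g (by norm_num)] at h2
      change Fi24H.T 11 1 = 1 at h2
      rw [moves_one.2] at h2
      norm_num at h2
    · refine ⟨h, hh, ?_⟩
      rw [E.conj_eq_iff.2 e.symm]
      calc h * u8 * z * (h * u8)⁻¹ = h * (u8 * z * u8⁻¹) * h⁻¹ := by group
        _ = _ := by rw [hz, u8, short_rep]
  · rintro ⟨h, hh, rfl⟩
    refine ⟨(h0D : IsConj z _).trans (isConj_iff.2 ⟨h, rfl⟩), fun e => hne ?_,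
      (comm_z.2 (mul_mem (mul_mem hh h0H) (inv_mem hh))).symm⟩
    calc Fi24.setup.g 0 = h⁻¹ * (h * Fi24.setup.g 0 * h⁻¹) * h := by group
      _ = h⁻¹ * z * h := by rw [e]
      _ = z := by rw [(comm_z.2 (inv_mem hh)).eq, inv_mul_cancel_right]

end Dic

end

end CfsgLib.FischerExist
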