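import Cfsg.Agent.CosetEnum.Fi22U.Transposition
import Cfsg.Agent.CosetEnum.Fi23Simple.Transposition
import Cfsg.Agent.Fi23Pts.Points
import Cfsg.Agent.SporFischer.CentralizerM23
import Cfsg.Agent.SporFischer.ComponentM22
import Cfsg.Agent.FischerTypes.M23Connected

/-!
The presented groups `Fi22` and `Fi23` with their transpositions are of types M(22) and M(23).
-/

set_option autoImplicit false
set_option maxRecDepth 100000
set_option linter.style.haveILetI false

namespace CfsgLib.FischerExist

open Cfsg CfsgLib.CosetEnum CfsgLib.SporB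

theorem group_of_class {G : Type*} [Group G] {D : Set G} (h : IsThreeTranspositionClass D) :
    IsThreeTranspositionGroup D := by
  obtain ⟨h1, ⟨a, -, rfl⟩, h3⟩ := h
  exact ⟨h1, fun g x hx => hx.trans (isConj_iff.2 ⟨g, rfl⟩), h3⟩

/-- A double cover of a perfect simple group without a subgroup of index two missing the centre. -/
theorem cover_facts {C K : Type*} [Group C] [Finite C] [Group K] [IsSimpleGroup K]
    (hKc : Subgroup.center K = ⊥) (hKp : commutator K = ⊤) (f : C →* K) (hf : Function.Surjective f)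
    (z : C) (hker : f.ker = Subgroup.zpowers z) (hz2 : orderOf z = 2) (hzc : ∀ u, Commute z u)
    (hno : ∀ L : Subgroup C, L.Normal → L.index = 2 → z ∉ L → False) :
    Subgroup.center C = Subgroup.zpowers z ∧ IsQuasisimple C := by
  have hcen : Subgroup.center C = Subgroup.zpowers z := by
    refine le_antisymm (fun u hu => ?_)
      (Subgroup.zpowers_le.2 (Subgroup.mem_center_iff.2 fun u => (hzc u).symm.eq))
    have h1 : f u ∈ Subgroup.center K := Subgroup.mem_center_iff.2 fun q => by
      obtain ⟨v, rfl⟩ := hf q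
      rw [← map_mul, ← map_mul, Subgroup.mem_center_iff.1 hu v]
    rw [hKc, Subgroup.mem_bot] at h1
    rw [← hker]
    exact h1
  refine ⟨hcen, Group.isPerfect_def.2 ?_, ?_⟩
  · by_contra hne
    have hmap : (commutator C).map f = ⊤ := by
      rw [commutator_def, Subgroup.map_commutator, Subgroup.map_top_of_surjective f hf, ← commutator_def, hKp]
    have hz : z ∉ commutator C := fun hz => hne (eq_top_iff.2 fun u _ => by
      obtain ⟨v, hv, hvu⟩ := Subgroup.mem_map.1 (hmap.symm ▸ Subgroup.mem_top (f u))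
      have hk : v⁻¹ * u ∈ Subgroup.zpowers z := by
        rw [← hker, MonoidHom.mem_ker, map_mul, map_inv, hvu, inv_mul_cancel]
      have := mul_mem hv ((Subgroup.zpowers_le.2 hz) hk)
      rwa [mul_inv_cancel_left] at this)
    refine hno _ inferInstance ?_ hz
    -- the quotient map is bijective on the derived subgroup
    have hinj : Function.Injective (f.comp (commutator C).subtype) := by
      rw [injective_iff_map_eq_one]
      rintro ⟨v, hv⟩ hv1
      have hvz : v ∈ Subgroup.zpowers z := by rw [← hker]; exact hv1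
      obtain ⟨n, rfl⟩ := Subgroup.mem_zpowers_iff.1 hvz
      have hz22 : z ^ 2 = 1 := hz2 ▸ pow_orderOf_eq_one z
      refine Subtype.ext ?_
      rcases Int.even_or_odd' n with ⟨k, rfl | rfl⟩
      · show z ^ (2 * k) = 1
        rw [zpow_mul, show z ^ (2 : ℤ) = 1 by exact_mod_cast hz22, one_zpow]
      · exfalso
        apply hz
        have e : z ^ (2 * k + 1) = z := by
          rw [zpow_add, zpow_mul, show z ^ (2 : ℤ) = 1 by exact_mod_cast hz22, one_zpow, one_mul, zpow_one]
        rwa [e] at hv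
    have hbij : Function.Bijective (f.comp (commutator C).subtype) := ⟨hinj, fun q => by
      obtain ⟨v, hv, rfl⟩ := Subgroup.mem_map.1 (hmap.symm ▸ Subgroup.mem_top q)
      exact ⟨⟨v, hv⟩, rfl⟩⟩
    have h1 := Nat.card_congr (Equiv.ofBijective _ hbij)
    have h2 := Subgroup.card_eq_card_quotient_mul_card_subgroup f.ker
    rw [Nat.card_congr (QuotientGroup.quotientKerEquivOfSurjective f hf).toEquiv, hker, Nat.card_zpowers,
      hz2, ← h1, ← Subgroup.card_mul_index (commutator C)] at h2
    exact Nat.eq_of_mul_eq_mul_left Nat.card_pos h2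
  · let e : C ⧸ Subgroup.center C ≃* K :=
      (QuotientGroup.quotientMulEquivOfEq (hcen.trans hker.symm)).trans
        (QuotientGroup.quotientKerEquivOfSurjective f hf)
    exact e.isSimpleGroup

/-- The involution fixes a second member of a class of even size. -/
theorem exists_second_fixed {G : Type*} [Group G] [Finite G] {D : Set G} (h : IsThreeTranspositionGroup D)
    (heven : 2 ∣ Nat.card D) {d : G} (hd : d ∈ D) :
    ∃ g ∈ D, g ≠ d ∧ Commute d g := by
  classical
  haveI : Fintype D := Fintype.ofFinite D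
  by_contra hno
  push Not at hno
  have hd2 : d * d = 1 := by rw [← pow_two, ← h.1.1 d hd, pow_orderOf_eq_one]
  have hinv : d⁻¹ = d := inv_eq_of_mul_eq_one_right hd2
  have hback : ∀ x : G, d * (d * x * d) * d = x := fun x => by
    rw [mul_assoc, mul_assoc (d * x), hd2, mul_one, ← mul_assoc, hd2, one_mul]
  have hmem : ∀ x ∈ D, d * x * d ∈ D := fun x hx => by
    have := h.2.1 d x hx
    rwa [hinv] at this
  let σ : Equiv.Perm D :=
    ⟨fun x => ⟨d * x.1 * d, hmem _ x.2⟩, fun x => ⟨d * x.1 * d, hmem _ x.2⟩,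
      fun x => Subtype.ext (hback x.1), fun x => Subtype.ext (hback x.1)⟩
  have hσ : σ.support = Finset.univ.erase ⟨d, hd⟩ := by
    ext ⟨x, hx⟩
    simp only [Equiv.Perm.mem_support, Finset.mem_erase, Finset.mem_univ, and_true, ne_eq]
    constructor
    · intro hne he
      obtain rfl : x = d := congrArg Subtype.val he
      exact hne (Subtype.ext (show x * x * x = x by rw [hd2, one_mul]))
    · intro hne he
      refine hno x hx (fun e => hne (Subtype.ext e)) ?_
      have e : d * x * d = x := congrArg Subtype.val he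
      show d * x = x * d
      calc d * x = d * x * d * d := by rw [mul_assoc _ d d, hd2, mul_one]
        _ = x * d := by rw [e]
  have h2 := Equiv.Perm.two_dvd_card_support (σ := σ) (by
    ext x
    exact congrArg Subtype.val (show σ (σ x) = x from Subtype.ext (hback x.1)))
  rw [hσ, Finset.card_erase_of_mem (Finset.mem_univ _), Finset.card_univ, ← Nat.card_eq_fintype_card] at h2
  have : 0 < Nat.card D := by
    haveI : Nonempty D := ⟨⟨d, hd⟩⟩
    exact Nat.card_pos
  omega

/-- The central quotient of the centraliser. -/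
theorem normal_zpowers_centralizer {G : Type*} [Group G] (d : G) :
    ((Subgroup.zpowers d).subgroupOf (Subgroup.centralizer ({d} : Set G))).Normal := by
  refine ⟨fun x hx g => ?_⟩
  rw [Subgroup.mem_subgroupOf] at hx ⊢
  obtain ⟨n, hn⟩ := Subgroup.mem_zpowers_iff.1 hx
  have hg : Commute (g : G) d := Subgroup.mem_centralizer_singleton_iff.1 g.2
  show (g : G) * x * (g : G)⁻¹ ∈ _
  rw [← hn, (hg.zpow_right n).eq, mul_inv_cancel_right]
  exact Subgroup.zpow_mem_zpowers d n

/-- `Fi22` with its transpositions is of type M(22). -/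
theorem exists_m22 :
    ∃ D : Set Fi22.setup.Grp, IsThreeTranspositionClass D ∧ IsPrimitiveUnderConj D ∧
      IsOfTypeM22 Fi22.setup.Grp D := by
  haveI := Fi22.finite_grp
  obtain ⟨D, hD, hcard, hcov⟩ := Fi22U.exists_class
  obtain ⟨d, hd, hDd⟩ := hD.2.1
  obtain ⟨hc2, ⟨e⟩, hno⟩ := hcov d hd
  have hord : orderOf d = 2 := hD.1.1 d hd
  haveI hs := (FischerTypes.psu62Facts FFour FFour.card_eq).1
  set C := Subgroup.centralizer ({d} : Set Fi22.setup.Grp) with hC
  let z : C := ⟨d, Subgroup.mem_centralizer_singleton_iff.2 rfl⟩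
  have hzc : ∀ u : C, Commute z u := fun u =>
    Subtype.ext (Subgroup.mem_centralizer_singleton_iff.1 u.2).symm
  have hzo : orderOf z = 2 := by rw [← Subgroup.orderOf_coe]; exact hord
  have hcen : Subgroup.center C = Subgroup.zpowers z := by
    refine (Subgroup.eq_of_le_of_card_ge
      (Subgroup.zpowers_le.2 (Subgroup.mem_center_iff.2 fun u => (hzc u).symm.eq)) ?_).symm
    rw [hc2, Nat.card_zpowers, hzo]
  have hperf : commutator (Cfsg.PSU 6 FFour 2) = ⊤ := by
    rcases (inferInstance : (commutator (Cfsg.PSU 6 FFour 2)).Normal).eq_bot_or_eq_top with h | h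
    · exfalso
      have h2 := (FischerTypes.psu62Facts FFour FFour.card_eq).2
      have htop : Subgroup.center (Cfsg.PSU 6 FFour 2) = ⊤ := (commutator_eq_bot_iff_center_eq_top _).1 h
      letI : CommGroup (Cfsg.PSU 6 FFour 2) := Group.commGroupOfCenterEqTop htop
      have hp : (Nat.card (Cfsg.PSU 6 FFour 2)).Prime := IsSimpleGroup.prime_card
      have := (Nat.prime_dvd_prime_iff_eq Nat.prime_two hp).1 ((dvd_pow_self 2 (by norm_num)).trans h2)
      rw [← this] at h2
      norm_num at h2
    · exact h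
  have hcenP : Subgroup.center (Cfsg.PSU 6 FFour 2) = ⊥ := by
    rcases (inferInstance : (Subgroup.center (Cfsg.PSU 6 FFour 2)).Normal).eq_bot_or_eq_top with h | h
    · exact h
    · exfalso
      have hb := (commutator_eq_bot_iff_center_eq_top _).2 h
      rw [hperf] at hb
      exact absurd hb top_ne_bot
  obtain ⟨-, hqs⟩ := cover_facts hcenP hperf (e.toMonoidHom.comp (QuotientGroup.mk' _))
    (e.surjective.comp (QuotientGroup.mk'_surjective _)) z (by
      ext u
      rw [MonoidHom.mem_ker, MonoidHom.comp_apply, QuotientGroup.mk'_apply, ← hcen]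
      show e _ = 1 ↔ _
      rw [e.map_eq_one_iff, QuotientGroup.eq_one_iff]) hzo hzc fun L hLn hL hzL => hno L (by
    refine Subgroup.isComplement'_of_card_mul_and_disjoint ?_ ?_
    · rw [hc2, mul_comm, ← hL, Subgroup.card_mul_index]
    · rw [Subgroup.disjoint_def]
      intro x hx hxL
      rw [hcen] at hx
      obtain ⟨n, rfl⟩ := Subgroup.mem_zpowers_iff.1 hx
      have hz22 : z ^ (2 : ℤ) = 1 := by
        rw [zpow_two, ← pow_two, ← hzo, pow_orderOf_eq_one]
      rcases Int.even_or_odd' n with ⟨k, rfl | rfl⟩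
      · rw [zpow_mul, hz22, one_zpow]
      · exfalso
        rw [zpow_add, zpow_mul, hz22, one_zpow, one_mul, zpow_one] at hxL
        exact hzL hxL)
  haveI := normal_zpowers_centralizer d
  have hZ : (Subgroup.zpowers d).subgroupOf C = Subgroup.center C := by
    rw [hcen]
    ext u
    rw [Subgroup.mem_subgroupOf, Subgroup.mem_zpowers_iff, Subgroup.mem_zpowers_iff]
    exact exists_congr fun n => by rw [Subtype.ext_iff, Subgroup.coe_zpow]
  obtain ⟨g, hg, hgd, hgc⟩ := exists_second_fixed (group_of_class hD) (by rw [hcard]; norm_num) hd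
  rw [hDd] at hg
  obtain ⟨c, rfl⟩ := isConj_iff.1 (hg : IsConj d g)
  let e' : C ⧸ (Subgroup.zpowers d).subgroupOf C ≃* Cfsg.PSU 6 FFour 2 :=
    (QuotientGroup.quotientMulEquivOfEq hZ).trans e
  obtain ⟨M⟩ := SporFischer.exists_u62Data hord hqs FFour FFour.card_eq e'
    ⟨c, Subgroup.mem_centralizer_singleton_iff.2 hgc.symm.eq, hgd⟩
  obtain ⟨h3, h22⟩ := M.conclusion hord hqs FFour FFour.card_eq e'
  haveI : IsSimpleGroup Fi22.setup.Grp := Fi22.isSimpleGroup_Fi22
  exact ⟨_, h3, FischerTypes.isPrimitive_of_simple (group_of_class h3) h22, h22⟩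

/-- `Fi23` with the conjugates of its first generator is of type M(23). -/
theorem type_m23 :
    IsThreeTranspositionClass (conjugatesOf Fi23Pts.A) ∧ IsPrimitiveUnderConj (conjugatesOf Fi23Pts.A) ∧
      IsOfTypeM23 Fi23Pts.G (conjugatesOf Fi23Pts.A) := by
  obtain ⟨E, hE, -, h22⟩ := exists_m22
  haveI := Fi23.finite_grp
  obtain ⟨φ, e, hφ, he, he0, hinj, hG, hH, ψ, hsurj, hk2, hker⟩ := Fi23.order_and_action
  haveI : IsSimpleGroup Fi22.setup.Grp := Fi22.isSimpleGroup_Fi22
  set z : Fi23.setup.Grp := prodw Fi23.setup.g (Fi23.zWord.map Fi23.lm) with hz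
  obtain ⟨⟨w, hw⟩, hw1, -⟩ := (Nat.card_eq_two_iff' (1 : ψ.ker)).mp hk2
  have hwz : (w : Fi23.setup.Grp) = z := (hker w hw).resolve_left fun h => hw1 (Subtype.ext h)
  have hz1 : z ≠ 1 := fun h => hw1 (Subtype.ext (Subtype.ext (hwz.trans h)))
  have hcw : ∀ u : Fi23H.enum.H, Commute w u := fun u => by
    have hc : u * w * u⁻¹ ∈ ψ.ker := (MonoidHom.normal_ker ψ).conj_mem w hw _
    refine (mul_inv_eq_iff_eq_mul.1 ?_ : u * w = w * u).symm
    rcases hker _ hc with h | h
    · rw [mul_inv_eq_one, mul_eq_left] at h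
      exact absurd (Subtype.ext h) hw1
    · exact Subtype.ext (h.trans hwz.symm)
  have hle : Fi23H.enum.H ≤ Subgroup.centralizer ({z} : Set Fi23.setup.Grp) := fun u hu => by
    rw [Subgroup.mem_centralizer_singleton_iff, ← hwz]
    exact (congrArg Subtype.val (hcw ⟨u, hu⟩).eq).symm
  haveI : IsSimpleGroup Fi23.setup.Grp := Fi23.isSimpleGroup_Fi23
  have hne : Subgroup.centralizer ({z} : Set Fi23.setup.Grp) ≠ ⊤ := fun htop => hz1 (by
    have hzc : z ∈ Subgroup.center Fi23.setup.Grp := by
      rw [Subgroup.mem_center_iff]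
      intro u
      have hu : u ∈ Subgroup.centralizer ({z} : Set Fi23.setup.Grp) := htop ▸ Subgroup.mem_top u
      rwa [Subgroup.mem_centralizer_singleton_iff] at hu
    rcases (inferInstance : (Subgroup.center Fi23.setup.Grp).Normal).eq_bot_or_eq_top with h | h
    · rw [h] at hzc
      exact Subgroup.mem_bot.mp hzc
    · exfalso
      letI : CommGroup Fi23.setup.Grp := Group.commGroupOfCenterEqTop h
      have hp : (Nat.card Fi23.setup.Grp).Prime := IsSimpleGroup.prime_card
      rw [hG] at hp
      exact absurd hp (by norm_num))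
  have hC := (Fi23H.maximal φ e hφ he he0 hle).resolve_right hne
  haveI : _root_.Fact (Nat.Prime 2) := ⟨Nat.prime_two⟩
  have hwo : orderOf w = 2 := by
    refine orderOf_eq_prime ?_ fun h => hw1 (Subtype.ext h)
    have h : (⟨w, hw⟩ : ψ.ker) ^ 2 = 1 := by rw [← hk2]; exact pow_card_eq_one'
    exact congrArg Subtype.val h
  have hord : orderOf z = 2 := by rw [← hwz, Subgroup.orderOf_coe, hwo]
  set C := Subgroup.centralizer ({z} : Set Fi23.setup.Grp) with hCdef
  haveI : Finite Fi23H.enum.H := Fi23.H_finite_and_card_le.1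
  have hperf : commutator Fi22.setup.Grp = ⊤ := by
    rcases (inferInstance : (commutator Fi22.setup.Grp).Normal).eq_bot_or_eq_top with h | h
    · exfalso
      have htop : Subgroup.center Fi22.setup.Grp = ⊤ := (commutator_eq_bot_iff_center_eq_top _).1 h
      rw [h22.1] at htop
      exact absurd htop bot_ne_top
    · exact h
  have hkerw : ψ.ker = Subgroup.zpowers w := by
    refine (Subgroup.eq_of_le_of_card_ge (Subgroup.zpowers_le.2 hw) ?_).symm
    rw [hk2, Nat.card_zpowers, hwo]
  obtain ⟨hcen, hqs⟩ := cover_facts h22.1 hperf ψ hsurj w hkerw hwo hcw fun L _ hL _ =>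
    Fi23.H_no_index_two L hL
  let i : C ≃* Fi23H.enum.H := MulEquiv.subgroupCongr hC
  haveI := normal_zpowers_centralizer z
  have hzC : (Subgroup.zpowers z).subgroupOf C = (ψ.comp i.toMonoidHom).ker := by
    ext u
    rw [Subgroup.mem_subgroupOf, MonoidHom.mem_ker, MonoidHom.comp_apply]
    show _ ↔ ψ (i u) = 1
    rw [← MonoidHom.mem_ker, hkerw, Subgroup.mem_zpowers_iff, Subgroup.mem_zpowers_iff]
    refine exists_congr fun n => ?_
    rw [Subtype.ext_iff, Subgroup.coe_zpow, hwz]
    exact Iff.rfl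
  let e' : C ⧸ (Subgroup.zpowers z).subgroupOf C ≃* Fi22.setup.Grp :=
    (QuotientGroup.quotientMulEquivOfEq hzC).trans
      (QuotientGroup.quotientKerEquivOfSurjective _ (hsurj.comp i.surjective))
  have hEc : IsThreeTranspositionClass (e'.symm '' E) := by
    obtain ⟨⟨h1, h2⟩, ⟨a, ha, hEa⟩, hgen⟩ := hE
    refine ⟨⟨?_, ?_⟩, ⟨e'.symm a, ⟨a, ha, rfl⟩, ?_⟩, ?_⟩
    · rintro _ ⟨x, hx, rfl⟩
      rw [MulEquiv.orderOf_eq]; exact h1 x hx
    · rintro _ ⟨x, hx, rfl⟩ _ ⟨y, hy, rfl⟩
      rw [← map_mul, ← map_pow, ← map_pow, e'.symm.map_eq_one_iff, e'.symm.map_eq_one_iff]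
      exact h2 x hx y hy
    · rw [hEa]
      ext y
      constructor
      · rintro ⟨x, hx, rfl⟩; exact e'.symm.toMonoidHom.map_isConj hx
      · intro hy
        refine ⟨e' y, ?_, e'.symm_apply_apply y⟩
        have h := e'.toMonoidHom.map_isConj (hy : IsConj (e'.symm a) y)
        simp only [MulEquiv.coe_toMonoidHom, MulEquiv.apply_symm_apply] at h
        exact h
    · rw [← MulEquiv.coe_toMonoidHom, ← MonoidHom.map_closure, hgen,
        Subgroup.map_top_of_surjective _ e'.symm.surjective]
  have h22' : IsOfTypeM22 _ (e'.symm '' E) := SporFischer.isOfTypeM22_of_equiv e'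
    (by rw [← Set.image_comp]; simp) h22
  have hqs' : IsQuasisimple C := by
    refine ⟨Group.isPerfect_def.2 ?_, ?_⟩
    · rw [← Subgroup.map_top_of_surjective i.symm.toMonoidHom i.symm.surjective,
        ← Group.isPerfect_def.1 hqs.1, commutator_def, commutator_def, Subgroup.map_commutator,
        Subgroup.map_top_of_surjective i.symm.toMonoidHom i.symm.surjective]
    · haveI := hqs.2
      exact (QuotientGroup.congr _ _ i (by
        ext y
        constructor
        · rintro ⟨x, hx, rfl⟩
          refine Subgroup.mem_center_iff.2 fun u => ?_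
          obtain ⟨u, rfl⟩ := i.surjective u
          show i u * i x = i x * i u
          rw [← map_mul, ← map_mul, Subgroup.mem_center_iff.1 hx]
        · intro hy
          exact ⟨i.symm y, Subgroup.mem_center_iff.2 fun u => i.injective (by simpa using Subgroup.mem_center_iff.1 hy (i u)), i.apply_symm_apply y⟩)).isSimpleGroup
  -- the point zero and a neighbour of it
  obtain ⟨S⟩ := Fi23Pts.exists_act
  have hzd : z = Fi23Pts.d 0 := by
    rw [hz, ← Fi23Pts.zw_eq, Fi23Pts.d]
    exact (prodw_eq_of_sameWord (S := Fi23.setup) hinj hφ (Fi23Pts.dw 0) Fi23Pts.zw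
      (Fi23Pts.dw_lt (show 0 < 31671 by norm_num)) (show ∀ x ∈ Fi23Pts.zw, x < 10 by decide)
      (show 31671 ≤ 2 ^ 15 by norm_num) Fi23Pts.root_same).symm
  have hconjA : ∀ q, IsConj Fi23Pts.A (Fi23Pts.d q) := fun q =>
    isConj_iff.2 ⟨(prodw Fi23.setup.g (Fi23Pts.pw q))⁻¹, by rw [inv_inv, Fi23Pts.d_eq]⟩
  let j : Fin Fi23Pts.N := ⟨52, show 52 < 31671 by norm_num⟩
  have hcom : Commute (Fi23Pts.d 0) (Fi23Pts.d j) := (S.com_iff 0 j).1 (by decide +kernel)
  obtain ⟨c, hc⟩ := isConj_iff.1 ((hconjA 0).symm.trans (hconjA j))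
  obtain ⟨h3, h23⟩ := SporFischer.conclusion_m23 hord hqs' hEc h22'
    ⟨c, Subgroup.mem_centralizer_singleton_iff.2 (by rw [hzd, hc]; exact hcom.symm.eq), fun h => by
      rw [hzd, hc] at h
      exact absurd (congrArg Fin.val (S.d_inj h)) (show (52 : ℕ) ≠ 0 by norm_num)⟩
  have hsame : conjugatesOf z = conjugatesOf Fi23Pts.A := by
    ext y
    show IsConj z y ↔ IsConj Fi23Pts.A y
    rw [hzd]
    exact ⟨fun h => (hconjA 0).trans h, fun h => (hconjA 0).symm.trans h⟩
  rw [hsame] at h3 h23
  exact ⟨h3, FischerTypes.isPrimitive_of_M23 (group_of_class h3) h23, h23⟩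

end CfsgLib.FischerExist
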