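import Cfsg.Agent.FischerExist.M22M23
import Cfsg.Agent.FischerExist.Fi24Members
import Cfsg.Agent.Fi23D.Final
import Cfsg.Agent.FischerTypes.M24Local

/-!
The presented `Fi24` with its transpositions is of type M(24).
-/

set_option autoImplicit false
set_option maxRecDepth 100000
set_option linter.style.haveILetI false

namespace CfsgLib.FischerExist

open Cfsg CfsgLib.CosetEnum CfsgLib.CosetEnum.Fi24
open Fi24H (H hLetters perm walkT)

noncomputable section

/-- The word of reversed letters. -/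
theorem prodw_reverse : ∀ w : List ℕ,
    prodw Fi24.setup.g w.reverse = (prodw Fi24.setup.g w)⁻¹
  | [] => by simp [prodw_nil]
  | a :: w => by
    rw [List.reverse_cons, prodw_append, prodw_reverse w, prodw_cons, prodw_cons, prodw_nil, mul_one,
      mul_inv_rev, inv_g]

theorem prodw_mem_sub (U : Subgroup G24) (w : List ℕ) (hw : ∀ x ∈ w, Fi24.setup.g x ∈ U) :
    prodw Fi24.setup.g w ∈ U := by
  induction w with
  | nil => rw [prodw_nil]; exact one_mem _
  | cons a w ih =>
    rw [prodw_cons]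
    exact mul_mem (hw a List.mem_cons_self) (ih fun x hx => hw x (List.mem_cons_of_mem a hx))

theorem prodw_mem_H (w : List ℕ) (hw : ∀ x ∈ w, x ∈ hLetters) : prodw Fi24.setup.g w ∈ H :=
  prodw_mem_sub _ w fun x hx => g_mem_H x (hw x hx)

theorem map_m23_mem (w : List ℕ) : ∀ x ∈ w.map m23, x ∈ hLetters := fun x hx => by
  obtain ⟨y, -, rfl⟩ := List.mem_map.1 hx
  exact m23_mem y

namespace Dic

variable (E : Dic)

theorem χ_word : ∀ w : List ℕ, (∀ x ∈ w, x < 10) →
    E.χ (prodw Fi23.setup.g w) =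
      QuotientGroup.mk ⟨prodw Fi24.setup.g (w.map m23), prodw_mem_H _ (map_m23_mem w)⟩
  | [], _ => by
    rw [prodw_nil, map_one, ← QuotientGroup.mk_one]
    exact congrArg QuotientGroup.mk (Subtype.ext (by simp [prodw_nil]))
  | a :: w, h => by
    rw [prodw_cons, map_mul, E.hχ a (h a List.mem_cons_self),
      χ_word w (fun x hx => h x (List.mem_cons_of_mem a hx)), ← QuotientGroup.mk_mul]
    exact congrArg QuotientGroup.mk (Subtype.ext (by simp [prodw_cons]))

theorem letter_ne_check : (hLetters.all fun x =>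
    Nat.beq x 11 || !Nat.beq (Fi24H.T x 1) (Fi24H.T 11 1) || !Nat.beq (Fi24H.T x 3) (Fi24H.T 11 3)) = true := by
  decide +kernel

include E in
theorem letter_perp {x : ℕ} (hx : x ∈ hLetters) (h11 : x ≠ 11) :
    Fi24.setup.g x ∈ FischerTypes.perp D24 (Fi24.setup.g 11) := by
  have hx12 := Fi24.hLetters_lt x hx
  refine ⟨E.g_mem_D hx12, fun e => ?_, comm_l x hx⟩
  have hT : ∀ i : Fin 306936, Fi24H.T x i.val = Fi24H.T 11 i.val := fun i => by
    rw [← E.φ_g hx12, ← E.φ_g (show 11 < 12 by norm_num), e]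
  have h := List.all_eq_true.1 letter_ne_check x hx
  have h1 : Fi24H.T x 1 = Fi24H.T 11 1 := hT ⟨1, by norm_num⟩
  have h3 : Fi24H.T x 3 = Fi24H.T 11 3 := hT ⟨3, by norm_num⟩
  simp only [Bool.or_eq_true, Bool.not_eq_true', Nat.beq_eq, ← Bool.not_eq_true] at h
  rcases h with (h | h) | h
  exacts [h11 h, h h1, h h3]

include E in
theorem perp_subset_H : FischerTypes.perp D24 (Fi24.setup.g 11) ⊆ (H : Set G24) := fun _ hy =>
  comm_z.1 hy.2.2.symm

include E in
theorem closure_perp : Subgroup.closure (FischerTypes.perp D24 (Fi24.setup.g 11)) = H := by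
  refine le_antisymm ((Subgroup.closure_le _).2 E.perp_subset_H) ((Subgroup.closure_le _).2 ?_)
  rintro _ ⟨x, hx, rfl⟩
  by_cases h : x = 11
  · subst h
    have hu : ∀ y ∈ Fi24P.uWord, y ∈ hLetters ∧ y ≠ 11 := by decide +kernel
    have hmem := prodw_mem_sub (Subgroup.closure (FischerTypes.perp D24 (Fi24.setup.g 11))) Fi24P.uWord
      fun y hy => Subgroup.subset_closure (E.letter_perp (hu y hy).1 (hu y hy).2)
    rwa [Fi24P.uWord_eq] at hmem
  · exact Subgroup.subset_closure (E.letter_perp hx h)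

include E in
theorem center_H : Subgroup.center H = Z := by
  refine le_antisymm (fun c hc => ?_) (Subgroup.zpowers_le.2 (Subgroup.mem_center_iff.2 fun y => (lH_central y).symm))
  rw [← QuotientGroup.eq_one_iff]
  have hm : (QuotientGroup.mk c : H ⧸ Z) ∈ Subgroup.center (H ⧸ Z) := Subgroup.mem_center_iff.2 fun q => by
    obtain ⟨y, rfl⟩ := QuotientGroup.mk_surjective q
    rw [← QuotientGroup.mk_mul, ← QuotientGroup.mk_mul, Subgroup.mem_center_iff.1 hc y]
  have hs : E.χ.symm (QuotientGroup.mk c) ∈ Subgroup.center Fi23.setup.Grp :=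
    Subgroup.mem_center_iff.2 fun u => E.χ.injective (by
      rw [map_mul, map_mul, E.χ.apply_symm_apply]
      exact Subgroup.mem_center_iff.1 hm _)
  rw [show Subgroup.center Fi23.setup.Grp = ⊥ from type_m23.2.2.1, Subgroup.mem_bot,
    MulEquiv.map_eq_one_iff] at hs
  exact hs

include E in
theorem quot_m23 :
    IsOfTypeM23 (↥(Subgroup.closure (FischerTypes.perp D24 (Fi24.setup.g 11))) ⧸
        Subgroup.center ↥(Subgroup.closure (FischerTypes.perp D24 (Fi24.setup.g 11))))
      ((QuotientGroup.mk : ↥(Subgroup.closure (FischerTypes.perp D24 (Fi24.setup.g 11))) → _) ''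
        {x | (x : G24) ∈ FischerTypes.perp D24 (Fi24.setup.g 11)}) := by
  suffices key : ∀ U : Subgroup G24, U = H → IsOfTypeM23 (U ⧸ Subgroup.center U)
      ((QuotientGroup.mk : U → _) '' {x : U | (x : G24) ∈ FischerTypes.perp D24 (Fi24.setup.g 11)}) from
    key _ E.closure_perp
  rintro U rfl
  let ψ : Fi23Pts.G ≃* H ⧸ Subgroup.center H :=
    E.χ.trans (QuotientGroup.quotientMulEquivOfEq E.center_H.symm)
  have h0H : Fi24.setup.g 0 ∈ H := g_mem_H 0 (by decide)
  have hA : ψ Fi23Pts.A = QuotientGroup.mk ⟨Fi24.setup.g 0, h0H⟩ := by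
    show QuotientGroup.quotientMulEquivOfEq E.center_H.symm (E.χ (Fi23.setup.g 0)) = _
    rw [E.hχ 0 (by norm_num)]
    rfl
  refine FischerTypes.isOfTypeM23_equiv ψ (fun y => ?_) type_m23.2.2
  constructor
  · intro hy
    obtain ⟨u, rfl⟩ := isConj_iff.1 (hy : IsConj Fi23Pts.A y)
    obtain ⟨h, hh⟩ := QuotientGroup.mk_surjective (ψ u)
    refine ⟨h * ⟨_, h0H⟩ * h⁻¹, E.mem_perp_iff.2 ⟨h, h.2, rfl⟩, ?_⟩
    rw [map_mul, map_mul, map_inv, hA, ← hh]
    rfl
  · rintro ⟨x, hx, he⟩
    obtain ⟨h, hh, e⟩ := E.mem_perp_iff.1 hx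
    refine (isConj_iff.2 ⟨ψ.symm (QuotientGroup.mk ⟨h, hh⟩), ψ.injective ?_⟩ : IsConj Fi23Pts.A y)
    rw [map_mul, map_mul, map_inv, ψ.apply_symm_apply, hA, ← he,
      show x = ⟨h, hh⟩ * ⟨_, h0H⟩ * ⟨h, hh⟩⁻¹ from Subtype.ext e]
    rfl

theorem point_three : (Fi24H.T 11 1 = 3 ∧ Fi24H.T 11 3 = 1) ∧ which 3 = 1 := by
  refine ⟨⟨?_, ?_⟩, ?_⟩ <;> exact Nat.eq_of_beq_eq_true (by decide +kernel)

theorem nine_fix : ([1, 2, 3, 4, 5, 6, 7, 8, 9].all fun x => Nat.beq (Fi24H.T (m23 x) 3) 3) = true := by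
  decide +kernel

theorem xWord_fix : walkT (Fi23D.Data.xWord.map m23).reverse 3 = 3 :=
  Nat.eq_of_beq_eq_true (by decide +kernel)

/-- The point of the second member. -/
abbrev p3 : Fin 306936 := ⟨3, by norm_num⟩

theorem φ_c : E.φ (Fi24.setup.g 11 * Fi24.setup.g 10) 0 = p3 := by
  refine Fin.ext ?_
  rw [map_mul, Equiv.Perm.mul_apply, E.φ_ten, E.φ_g (by norm_num)]
  exact point_three.1.1

theorem commute_c {y : G24} : Commute y (Fi24.setup.g 10) ↔ E.φ y p3 = p3 := by
  rw [← E.φ_c, ← E.commute_iff]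
  have h1 : setup.g 11 * setup.g 10 * setup.g 11 * setup.g 10 * setup.g 11 = setup.g 10 := by
    have hb := braid_g 10 11 (by decide +kernel)
    rw [← hb]
    simp [mul_assoc, ← mul_assoc (setup.g 10) (setup.g 10), ← mul_assoc (setup.g 11) (setup.g 11), sq_g]
  rw [show Fi24.setup.g 11 * Fi24.setup.g 10 * Fi24.setup.g 11 * (Fi24.setup.g 11 * Fi24.setup.g 10)⁻¹ =
    Fi24.setup.g 10 by rw [mul_inv_rev, inv_g, inv_g, ← mul_assoc]; exact h1]

include E in
theorem not_comm_c : ¬ Commute (Fi24.setup.g 11) (Fi24.setup.g 10) := fun h => by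
  have h1 := congrArg Fin.val ((E.stab _).2 (comm_z.1 h.symm))
  rw [E.φ_g (by norm_num)] at h1
  change Fi24H.T 10 0 = 0 at h1
  rw [point_facts.1] at h1
  norm_num at h1

include E in
theorem quot_triality :
    ∃ (N : Subgroup (↥(Subgroup.closure (FischerTypes.perp D24 (Fi24.setup.g 11) ∩
        FischerTypes.perp D24 (Fi24.setup.g 10))) ⧸
        Subgroup.center ↥(Subgroup.closure (FischerTypes.perp D24 (Fi24.setup.g 11) ∩
        FischerTypes.perp D24 (Fi24.setup.g 10))))) (_ : N.Normal),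
      Nonempty (N ≃* POmega (ZMod 3) (quadFormPlus 4 (ZMod 3))) ∧
      Nonempty ((↥(Subgroup.closure (FischerTypes.perp D24 (Fi24.setup.g 11) ∩
        FischerTypes.perp D24 (Fi24.setup.g 10))) ⧸
        Subgroup.center ↥(Subgroup.closure (FischerTypes.perp D24 (Fi24.setup.g 11) ∩
        FischerTypes.perp D24 (Fi24.setup.g 10)))) ⧸ N ≃* Equiv.Perm (Fin 3)) := by
  haveI := Fi23.finite_grp
  haveI := Fi24.finite_grp
  set P := FischerTypes.perp D24 (Fi24.setup.g 11) ∩ FischerTypes.perp D24 (Fi24.setup.g 10) with hP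
  set W := Subgroup.closure P with hW
  have hWH : W ≤ H := (Subgroup.closure_le _).2 fun y hy => E.perp_subset_H hy.1
  have hW3 : ∀ y ∈ W, E.φ y p3 = p3 := by
    intro y hy
    rw [← E.commute_c]
    refine (Subgroup.mem_centralizer_singleton_iff.1
      ((Subgroup.closure_le (Subgroup.centralizer ({Fi24.setup.g 10} : Set G24))).2 (fun u hu => ?_) hy) : _)
    rw [SetLike.mem_coe, Subgroup.mem_centralizer_singleton_iff]
    exact hu.2.2.2.symm
  have hmemP : ∀ y, y ∈ FischerTypes.perp D24 (Fi24.setup.g 11) → E.φ y p3 = p3 → y ∈ P :=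
    fun y hy h3 => ⟨hy, hy.1, fun e => E.not_comm_c (e ▸ hy.2.2), (E.commute_c.2 h3).symm⟩
  obtain ⟨S⟩ := Fi23Pts.exists_act
  let M : Fi23Three.FM Fi23Pts.G (conjugatesOf Fi23Pts.A) :=
    ⟨S, MulEquiv.refl _, fun t => by
      show IsConj Fi23Pts.A t ↔ _
      rw [isConj_iff]
      exact ⟨fun ⟨y, h⟩ => ⟨y, h.symm⟩, fun ⟨y, h⟩ => ⟨y, h.symm⟩⟩⟩
  let π : W →* Fi23Pts.G :=
    E.χ.symm.toMonoidHom.comp ((QuotientGroup.mk' Z).comp (Subgroup.inclusion hWH))
  have hinj : Function.Injective π := by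
    rw [injective_iff_map_eq_one]
    intro w hw
    have hw' : Subgroup.inclusion hWH w ∈ Z := by
      rw [← QuotientGroup.eq_one_iff]
      exact E.χ.symm.injective (hw.trans (map_one E.χ.symm).symm)
    obtain ⟨⟨l, hl⟩, hl1, hu⟩ := (Nat.card_eq_two_iff' (1 : Z)).1 E.cardZ
    by_contra hne
    have h1 := hu ⟨_, hw'⟩ (fun h => hne (Subtype.ext (congrArg (fun v : Z => ((v : H) : G24)) h :)))
    have h2 := hu ⟨lH, Subgroup.mem_zpowers _⟩ (fun h => by
      have h' : Fi24.setup.g 11 = 1 := congrArg (fun v : Z => ((v : H) : G24)) h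
      exact E.not_comm_c (h' ▸ Commute.one_left _))
    have h3 : (w : G24) = Fi24.setup.g 11 :=
      congrArg (fun v : Z => ((v : H) : G24)) (h1.trans h2.symm)
    have h4 := congrArg Fin.val (hW3 _ w.2)
    rw [h3, E.φ_g (by norm_num)] at h4
    change Fi24H.T 11 3 = 3 at h4
    rw [point_three.1.2] at h4
    norm_num at h4
  have hrange : ∀ w : List ℕ, (∀ x ∈ w, x < 10) → prodw Fi24.setup.g (w.map m23) ∈ P →
      prodw Fi23.setup.g w ∈ π.range := fun w hw hP' => by
    refine ⟨⟨_, Subgroup.subset_closure hP'⟩, ?_⟩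
    show E.χ.symm (QuotientGroup.mk _) = _
    rw [MulEquiv.symm_apply_eq, E.χ_word w hw]
    rfl
  have hLle : Fi23D.L M ≤ π.range := by
    refine (Subgroup.closure_le _).2 ?_
    rintro _ (⟨k, hk1, hk, rfl⟩ | rfl)
    · show prodw Fi23.setup.g [k] ∈ π.range
      refine hrange [k] (fun x hx => by rw [List.mem_singleton.1 hx]; exact hk) ?_
      rw [List.map_singleton, prodw_cons, prodw_nil, mul_one]
      refine hmemP _ (E.letter_perp (m23_mem k) ?_) (Fin.ext ?_)
      · interval_cases k <;> decide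
      · rw [E.φ_g (Fi24.hLetters_lt _ (m23_mem k))]
        exact Nat.eq_of_beq_eq_true (List.all_eq_true.1 nine_fix k (by
          simp only [List.mem_cons, List.not_mem_nil, or_false]; omega))
    · show prodw Fi23.setup.g Fi23D.Data.xWord ∈ π.range
      obtain ⟨hsh, -, -, hok⟩ := Fi23D.xWord_shape
      refine hrange _ (fun x hx => by simpa using List.all_eq_true.1 hok x hx) ?_
      refine hmemP _ (E.mem_perp_iff.2 ?_) (Fin.ext ?_)
      · obtain ⟨h, hh, e⟩ := E.mem_perp_iff.1 (E.letter_perp (x := 1) (by decide) (by decide))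
        refine ⟨(prodw Fi24.setup.g (Fi23D.xHalf.map m23))⁻¹ * h,
          mul_mem (inv_mem (prodw_mem_H _ (map_m23_mem _))) hh, ?_⟩
        rw [hsh, List.map_append, List.map_cons, List.map_reverse, prodw_append, prodw_cons,
          prodw_reverse, show m23 1 = 1 from rfl, e]
        group
      · rw [E.φ_prodw _ (fun x hx => Fi24.hLetters_lt x (map_m23_mem _ x hx))]
        exact xWord_fix
  have hcardL : Nat.card (Fi23D.L M) = 29713078886400 := by
    rw [Subgroup.card_eq_card_quotient_mul_card_subgroup (Fi23D.θ M).ker,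
      Nat.card_congr (QuotientGroup.quotientKerEquivOfSurjective _ (Fi23D.θ_surjective M)).toEquiv,
      Fi23D.ker_θ, Nat.card_congr (Subgroup.subgroupOfEquivOfLe (Fi23D.E_le M)).toEquiv, Fi23D.card_E,
      Nat.card_eq_fintype_card, Fintype.card_perm, Fintype.card_fin]
    rfl
  have hcardW : Nat.card W ≤ 29713078886400 := by
    set P3 := MulAction.stabilizer (H.map E.φ) p3 with hP3
    have hidx : P3.index = 275264 := by
      rw [hP3, MulAction.index_stabilizer, orbit_length E.gen p3 (by norm_num)]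
      exact if_pos point_three.2
    have hmul := P3.card_mul_index
    rw [hidx, Subgroup.card_map_of_injective E.inj, E.cardH] at hmul
    have hle : Nat.card W ≤ Nat.card P3 := by
      refine Nat.card_le_card_of_injective
        (fun w : W => (⟨⟨E.φ w, _, hWH w.2, rfl⟩, hW3 _ w.2⟩ : P3)) fun a b h => ?_
      exact Subtype.ext (E.inj (congrArg (fun v : P3 => ((v : H.map E.φ) : Equiv.Perm (Fin 306936))) h))
    omega
  have heq : π.range = Fi23D.L M := (Subgroup.eq_of_le_of_card_ge hLle (by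
    rw [hcardL, ← Nat.card_congr (MonoidHom.ofInjective hinj).toEquiv]
    exact hcardW)).symm
  let e0 : W ≃* Fi23D.L M := (MonoidHom.ofInjective hinj).trans (MulEquiv.subgroupCongr heq)
  have hcen : Subgroup.center W = ⊥ := by
    rw [Subgroup.eq_bot_iff_forall]
    intro w hw
    have h1 : e0 w ∈ Subgroup.centralizer
        (((Fi23D.E M).subgroupOf (Fi23D.L M) : Subgroup (Fi23D.L M)) : Set (Fi23D.L M)) :=
      Subgroup.mem_centralizer_iff.2 fun v _ => e0.symm.injective (by
        rw [map_mul, map_mul, e0.symm_apply_apply]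
        exact Subgroup.mem_center_iff.1 hw _)
    rw [Fi23D.centralizer_E_eq_bot, Subgroup.mem_bot, MulEquiv.map_eq_one_iff] at h1
    exact h1
  let e : W ⧸ Subgroup.center W ≃* Fi23D.L M :=
    ((QuotientGroup.quotientMulEquivOfEq hcen).trans QuotientGroup.quotientBot).trans e0
  let θ' := (Fi23D.θ M).comp e.toMonoidHom
  refine ⟨θ'.ker, inferInstance, ?_, ⟨QuotientGroup.quotientKerEquivOfSurjective θ'
    ((Fi23D.θ_surjective M).comp e.surjective)⟩⟩
  obtain ⟨eE⟩ := Fi23D.nonempty_equiv_E M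
  have hmap : θ'.ker.map e.toMonoidHom = (Fi23D.E M).subgroupOf (Fi23D.L M) := by
    rw [← Fi23D.ker_θ, ← MonoidHom.comap_ker, Subgroup.map_comap_eq_self_of_surjective e.surjective]
  exact ⟨((e.subgroupMap θ'.ker).trans (MulEquiv.subgroupCongr hmap)).trans
    ((Subgroup.subgroupOfEquivOfLe (Fi23D.E_le M)).trans eE)⟩

include E in
theorem type24 : IsOfTypeM24 G24 D24 :=
  ⟨E.center_eq_bot, _, E.g_mem_D (x := 11) (by norm_num), _, E.g_mem_D (x := 10) (by norm_num),
    E.not_comm_c, E.quot_m23, E.quot_triality⟩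

end Dic

/-- The presented Fi24 is a group of type M(24). -/
theorem type_m24 :
    IsThreeTranspositionClass D24 ∧ IsPrimitiveUnderConj D24 ∧ IsOfTypeM24 G24 D24 := by
  obtain ⟨E⟩ := exists_dic
  exact ⟨E.class24, E.primitive24, E.type24⟩

/-- The standing hypotheses hold for the presented Fi24. -/
theorem hyp24 : FischerTypes.M24.Hyp G24 D24 :=
  ⟨group_of_class type_m24.1, type_m24.2.1, type_m24.2.2⟩

end

end CfsgLib.FischerExist
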